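import Cfsg.Agent.Lib.Grp.ModMat.Mat
import Cfsg.Agent.Lib.Spor.Cos.Fi22Rep.Data
import Cfsg.Agent.Lib.Spor.Cos.Fi22.Words

/-! The nine matrices are involutions and satisfy the relations. -/

set_option autoImplicit false
set_option maxRecDepth 100000
set_option maxHeartbeats 4000000

open Cfsg.Agent.Spor.Cos Cfsg.Agent.Grp.ModMat

namespace Cfsg.Agent.Spor.Cos.Fi22Rep

/-- A step towards residues modulo thirteen in every entry. -/
noncomputable def fold13 (m15 m4095 y : ℕ) : ℕ :=
  Nat.add (Nat.land y m15) (Nat.mul 3 (Nat.land (Nat.shiftRight y 4) m4095))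

/-- A proposal for the residues modulo thirteen. -/
noncomputable def res13 (S : ℕ) : ℕ :=
  force (blocks (16 * 78) (blocks 16 15 78) 78) fun m => force (blocks (16 * 78) (blocks 16 4095 78) 78) fun M =>
    force (blocks (16 * 78) (blocks 16 1 78) 78) fun one => force (blocks (16 * 78) (blocks 16 3 78) 78) fun three =>
    force (fold13 m M S) fun a => force (fold13 m M a) fun b => force (fold13 m M b) fun c =>
    force (fold13 m M c) fun d => force (fold13 m M d) fun e => force (fold13 m M e) fun f =>
      Nat.sub f (Nat.mul 13 (Nat.land (Nat.shiftRight (Nat.add f three) 4) one))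

/-- The size, the modulus and the proposal. -/
noncomputable def setup13 : Setup := ⟨78, 13, 4, res13⟩

/-- The rows of a generator. -/
def rows78 (s : ℕ) : List ℕ := rep78.getD s []

theorem rows78_ok : (List.range 9).all (fun s => setup13.chkRows (rows78 s)) = true := by decide +kernel

theorem sq78_ok : (List.range 9).all (fun s => Nat.beq (setup13.run rows78 [s, s] setup13.one) setup13.one) = true := by
  decide +kernel

theorem rel78_ok : Fi22.words.all (fun w => Nat.beq (setup13.run rows78 w setup13.one) setup13.one) = true := by
  decide +kernel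

theorem words_lt : Fi22.words.all (fun w => w.all fun s => Nat.blt s 9) = true := by decide +kernel

theorem diag78 : Nat.beq (fieldAt 16 ((rows78 0).getD 0 0) 0) 1 = false ∧ fieldAt 16 ((rows78 0).getD 0 0) 0 < 13 := by
  decide +kernel

end Cfsg.Agent.Spor.Cos.Fi22Rep
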