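import Cfsg.Agent.Lib.Spor.Cos.Fi22Rep.Check
import Cfsg.Agent.Lib.Spor.Cos.Cox

/-! The nine matrices in the general linear group. -/

set_option autoImplicit false
set_option maxRecDepth 100000

open Cfsg.Agent.Spor.Cos Cfsg.Agent.Grp.ModMat

namespace Cfsg.Agent.Spor.Cos.Fi22Rep

theorem setup_ok : setup13.Ok := by unfold setup13 Setup.Ok; norm_num

theorem rows_all : ∀ s < 9, setup13.chkRows (rows78 s) = true :=
  fun s hs => List.all_eq_true.1 rows78_ok s (List.mem_range.2 hs)

theorem prod78 {w : List ℕ} (hw : ∀ s ∈ w, s < 9) (h : Nat.beq (setup13.run rows78 w setup13.one) setup13.one = true) :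
    (w.map fun s => setup13.ofRows (rows78 s)).prod = 1 :=
  Setup.prod_eq_one setup_ok (by unfold setup13; norm_num) (by unfold setup13; norm_num) (by unfold setup13; norm_num)
    rows_all hw h

/-- The general linear group in question. -/
abbrev G78 : Type := GL (Fin setup13.n) (ZMod setup13.q)

theorem mat78_sq {s : ℕ} (hs : s < 9) : setup13.ofRows (rows78 s) * setup13.ofRows (rows78 s) = 1 := by
  have h := prod78 (w := [s, s]) (by simp [hs]) (List.all_eq_true.1 sq78_ok s (List.mem_range.2 hs))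
  simpa using h

/-- A generator. -/
noncomputable def gl78 (s : ℕ) : G78 :=
  if h : s < 9 then ⟨setup13.ofRows (rows78 s), setup13.ofRows (rows78 s), mat78_sq h, mat78_sq h⟩ else 1

theorem gl78_coe {s : ℕ} (h : s < 9) : ((gl78 s : G78) : Matrix (Fin setup13.n) (Fin setup13.n) (ZMod setup13.q)) = setup13.ofRows (rows78 s) := by
  simp [gl78, h]

theorem gl78_sq (s : ℕ) : gl78 s * gl78 s = 1 := by
  by_cases h : s < 9
  · exact Units.ext (by rw [Units.val_mul, gl78_coe h, mat78_sq h, Units.val_one])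
  · simp [gl78, h]

theorem ev78_coe : ∀ w : List ℕ, (∀ s ∈ w, s < 9) →
    ((ev gl78 w : G78) : Matrix (Fin setup13.n) (Fin setup13.n) (ZMod setup13.q)) =
      (w.map fun s => setup13.ofRows (rows78 s)).prod
  | [], _ => by simp [ev]
  | s :: w, h => by
    rw [ev, Units.val_mul, gl78_coe (h s List.mem_cons_self), ev78_coe w fun t ht => h t (List.mem_cons_of_mem _ ht),
      List.map_cons, List.prod_cons]

theorem gl78_words : ∀ w ∈ Fi22.words, ev gl78 w = 1 := fun w hw => by
  have hl : ∀ s ∈ w, s < 9 := fun s hs =>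
    Nat.le_of_ble_eq_true (List.all_eq_true.1 (List.all_eq_true.1 words_lt w hw) s hs)
  exact Units.ext (by rw [ev78_coe w hl, prod78 hl (List.all_eq_true.1 rel78_ok w hw), Units.val_one])

theorem gl78_out (s : ℕ) (hs : 9 ≤ s) : gl78 s = 1 := dif_neg (Nat.not_lt.2 hs)

theorem cast_ne_one : ∀ a < 13, a ≠ 1 → ((a : ℕ) : ZMod 13) ≠ 1 := by decide

theorem gl78_ne : gl78 0 ≠ 1 := fun h => by
  have hi : 0 < setup13.n := by unfold setup13; norm_num
  have h2 := congrArg (fun u : G78 => (u : Matrix (Fin setup13.n) (Fin setup13.n) (ZMod setup13.q)) ⟨0, hi⟩ ⟨0, hi⟩) h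
  simp only [gl78_coe (s := 0) (by norm_num), Units.val_one, Matrix.one_apply_eq] at h2
  exact cast_ne_one _ diag78.2 (fun e => by have := diag78.1; rw [e] at this; exact absurd this (by decide)) h2

end Cfsg.Agent.Spor.Cos.Fi22Rep
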