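import Cfsg.Agent.Lib.Spor.Cos.Fi22.IsSimple
import Cfsg.Agent.Lib.Spor.Cos.Fi22Rep.Hom

/-! The presented group embeds into matrices of size 78 over thirteen elements. -/

set_option autoImplicit false
set_option maxRecDepth 100000

open Cfsg.Agent.Spor.Cos

namespace Cfsg.Agent.Spor.Cos.Fi22Rep

theorem exists_rep78 : ∃ f : Cfsg.Spor.Fi22 →* G78, ∀ s, f (Fi22.g s) = gl78 s :=
  Fi22.pres.exists_hom (G := G78) gl78 gl78_sq gl78_words
    (fun s hs => gl78_out s (le_trans (le_of_eq (rfl : 9 = Fi22.alph.length)) hs))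

theorem exists_faithful : ∃ f : Cfsg.Spor.Fi22 →* GL (Fin 78) (ZMod 13), Function.Injective f := by
  have := Fi22.isSimple
  obtain ⟨f, hf⟩ := exists_rep78
  have hinj : Function.Injective f := by
    rw [← MonoidHom.ker_eq_bot_iff]
    rcases (inferInstance : f.ker.Normal).eq_bot_or_eq_top with h | h
    · exact h
    · exact absurd ((hf 0).symm.trans (MonoidHom.mem_ker.1 (h ▸ Subgroup.mem_top (Fi22.g 0)))) gl78_ne
  exact ⟨f, hinj⟩

end Cfsg.Agent.Spor.Cos.Fi22Rep
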